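import Groth.Agent.FlatMor12.SubtrFlat.Generic
import Groth.Agent.FlatMorFlatten.SubScheme
import Groth.Agent.BlowUpLib.Proper
import Groth.Agent.FlatMorAdm.Strict

/-! Flattening blow-ups with surjective strict transform. -/

set_option autoImplicit false
set_option backward.isDefEq.respectTransparency false

universe u

open CategoryTheory CategoryTheory.Limits AlgebraicGeometry

namespace Groth.Agent.FlatMor12.SubtrFlat

theorem ideal_eq_top_of_disjoint {X : Scheme.{u}} (I : X.IdealSheafData) (V : X.affineOpens)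
    (h : Disjoint (V.1 : Set X) (I.support : Set X)) : I.ideal V = ⊤ := by
  by_contra hne
  obtain ⟨m, hm, hle⟩ := Ideal.exists_le_maximal _ hne
  let z : Spec (CommRingCat.of Γ(X, V.1)) := (⟨m, hm.isPrime⟩ : PrimeSpectrum Γ(X, V.1))
  have hz : V.2.fromSpec z ∈ X.zeroLocus (U := V.1) (I.ideal V : Set Γ(X, V.1)) ∩ V.1 :=
    (V.2.fromSpec_image_zeroLocus _).le ⟨z, hle, rfl⟩
  rw [← I.coe_support_inter V] at hz
  exact Set.disjoint_left.1 h hz.2 hz.1

/-- An effective Cartier divisor avoids all maximal points. -/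
theorem notMem_support_of_maxPts {X : Scheme.{u}} (I : X.IdealSheafData) (hI : BlowUp.IsEffCartierIdeal I)
    {η : X} (hη : η ∈ maxPts X) : η ∉ I.support := by
  intro hmem
  obtain ⟨W, hηW, d, hd, hdI⟩ := hI η
  obtain ⟨P, hP⟩ : η ∈ Set.range W.2.fromSpec := W.2.range_fromSpec.ge hηW
  have hmin : P.asIdeal ∈ minimalPrimes Γ(X, W.1) := by
    refine ⟨⟨P.isPrime, bot_le⟩, fun q hq hle => ?_⟩
    let Q : Spec Γ(X, W.1) := (⟨q, hq.1⟩ : PrimeSpectrum Γ(X, W.1))
    have hQP : Q ⤳ P := (PrimeSpectrum.le_iff_specializes (⟨q, hq.1⟩ : PrimeSpectrum Γ(X, W.1)) P).1 hle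
    have e : Q = P := W.2.fromSpec.isEmbedding.injective ((hη _ (hP ▸ hQP.map W.2.fromSpec.continuous)).trans hP.symm)
    rw [← e]
  have hdP : d ∈ P.asIdeal := by
    obtain ⟨P', hP', hPe⟩ : η ∈ W.2.fromSpec '' PrimeSpectrum.zeroLocus (I.ideal W : Set Γ(X, W.1)) := by
      rw [W.2.fromSpec_image_zeroLocus, ← I.coe_support_inter W]
      exact ⟨hmem, hηW⟩
    have := W.2.fromSpec.isEmbedding.injective (hPe.trans hP.symm)
    subst this
    exact hP' (hdI.ge (Ideal.mem_span_singleton_self d))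
  exact Set.disjoint_left.1 (Ideal.disjoint_nonZeroDivisors_of_mem_minimalPrimes hmin) hdP hd

/-- The strict transform contains the part away from the exceptional divisor. -/
theorem mem_support_of_killed {X : Scheme.{u}} (E 𝒥 : X.IdealSheafData)
    (h𝒥 : ∀ (V : X.affineOpens) (a : Γ(X, V.1)), a ∈ 𝒥.ideal V ↔
      BlowUp.KilledByPowerNear E (Coh.structureModule X) V a) {x : X} (hx : x ∉ E.support) :
    x ∈ 𝒥.support := by
  obtain ⟨_, ⟨V, hV, rfl⟩, hxV, hle⟩ :=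
    X.isBasis_affineOpens.exists_subset_of_mem_open (show x ∈ (E.support : Set X)ᶜ from hx)
      E.support.isClosed.isOpen_compl
  have htop := ideal_eq_top_of_disjoint E ⟨V, hV⟩ (Set.disjoint_left.2 fun z hz h => hle hz h)
  rw [Scheme.IdealSheafData.mem_support_iff_of_mem (U := ⟨V, hV⟩) hxV, Scheme.mem_zeroLocus_iff]
  intro a ha hxa
  obtain ⟨n, hn⟩ := (h𝒥 ⟨V, hV⟩ a).1 ha
  have h1 : (1 : Γ(X, V)) ∈ (E ^ n).ideal ⟨V, hV⟩ := by
    rw [Scheme.IdealSheafData.ideal_pow, Pi.pow_apply, htop, Ideal.top_pow]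
    exact Submodule.mem_top
  have : a = 0 := by
    have := hn 1 h1
    rwa [one_smul] at this
  subst this
  rw [Scheme.basicOpen_zero] at hxa
  exact hxa

variable {X Y : Scheme.{u}} [IsReduced Y] [CompactSpace Y] [QuasiSeparatedSpace Y]

theorem exists_flattening_surjective (hgen : IsCompact (maxPts Y))
    (f : X ⟶ Y) [LocallyOfFinitePresentation f] [QuasiCompact f] [QuasiSeparated f] :
    ∃ (U : Y.Opens) (𝓘 : Y.IdealSheafData) (Y' : Scheme.{u}) (b : Y' ⟶ Y),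
      Dense (U : Set Y) ∧ IsCompact (U : Set Y) ∧ BlowUp.IsBlowUp b 𝓘 ∧ BlowUp.IsAdmissibleFor U 𝓘 ∧
      IsProper b ∧ Surjective b ∧
      ∀ (X' : Scheme.{u}) (p₁ : X' ⟶ X) (p₂ : X' ⟶ Y'), IsPullback p₁ p₂ f b →
      ∀ (𝒥 : X'.IdealSheafData),
        (∀ (V : X'.affineOpens) (a : Γ(X', V.1)), a ∈ 𝒥.ideal V ↔
          BlowUp.KilledByPowerNear ((𝓘.comap f).comap p₁) (Coh.structureModule X') V a) →
        (Flat (𝒥.subschemeι ≫ p₂) ∧ LocallyOfFinitePresentation (𝒥.subschemeι ≫ p₂) ∧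
          QuasiCompact (𝒥.subschemeι ≫ p₂) ∧ QuasiSeparated (𝒥.subschemeι ≫ p₂)) ∧
        ∀ x : X', p₂ x ∈ maxPts Y' → x ∈ 𝒥.support := by
  obtain ⟨U, hmax, hU, hflat⟩ := exists_open_flat hgen f
  haveI : LocallyOfFinitePresentation (f ∣_ U) := IsZariskiLocalAtTarget.restrict ‹_› _
  obtain ⟨𝓘, Y', b, hb, hadm, hs, h⟩ := FlatMorFlatten.exists_flattening_scheme f U hU
  haveI : IsProper b := BlowUpLib.isProper_of_isBlowUp hb hadm.1
  have hd := dense_of_maxPts_subset hmax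
  refine ⟨U, 𝓘, Y', b, hd, hU, hb, hadm, inferInstance, ⟨fun y => ?_⟩, fun X' p₁ p₂ H 𝒥 h𝒥 =>
    ⟨h X' p₁ p₂ H 𝒥 h𝒥, fun x hx => ?_⟩⟩
  · have htop : 𝓘.comap U.ι = ⊤ := by
      rw [← Scheme.IdealSheafData.support_eq_bot_iff, Scheme.IdealSheafData.support_comap]
      refine SetLike.ext' (Set.eq_empty_of_forall_notMem fun z hz => ?_)
      exact Set.disjoint_left.1 hadm.2 (show U.ι z ∈ (𝓘.support : Set Y) from hz) z.2
    obtain ⟨l, hl, -⟩ := hb.2 _ U.ι (htop ▸ fun z => by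
      obtain ⟨_, ⟨V, hV, rfl⟩, hzV, -⟩ :=
        (U : Scheme.{u}).isBasis_affineOpens.exists_subset_of_mem_open (Set.mem_univ z) isOpen_univ
      exact ⟨⟨V, hV⟩, hzV, 1, one_mem _, by simp⟩)
    have hsub : (U : Set Y) ⊆ Set.range b := fun z hz => ⟨l ⟨z, hz⟩, congr($hl ⟨z, hz⟩)⟩
    exact b.isClosedMap.isClosed_range.closure_subset_iff.2 hsub (hd y)
  · refine mem_support_of_killed _ 𝒥 h𝒥 fun hxE => ?_
    rw [← Scheme.IdealSheafData.comap_comp, H.w, Scheme.IdealSheafData.comap_comp,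
      Scheme.IdealSheafData.support_comap] at hxE
    exact notMem_support_of_maxPts _ hb.1 hx hxE

end Groth.Agent.FlatMor12.SubtrFlat
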