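import Groth.Agent.EGA43.FlatDescent.SchemeOpen
import Groth.Agent.H8ProCons.Image
import Groth.Agent.H8ProCons.MaxPoint
import Groth.Agent.SubtrLib.Basic
import Groth.Agent.AlgSpLib.OnePointFlat
import Mathlib.AlgebraicGeometry.Morphisms.Flat

/-! Generic flatness over a reduced scheme with quasi-compact space of maximal points. -/

set_option autoImplicit false
set_option backward.isDefEq.respectTransparency false

universe u

open CategoryTheory CategoryTheory.Limits AlgebraicGeometry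

namespace Groth.Agent.FlatMor12.SubtrFlat

/-- The set of maximal points. -/
def maxPts (Y : Scheme.{u}) : Set Y := {y : Y | ∀ y' : Y, y' ⤳ y → y' = y}

theorem dense_of_maxPts_subset {Y : Scheme.{u}} {U : Set Y} (h : maxPts Y ⊆ U) : Dense U := by
  intro y
  obtain ⟨η, hη, hmax⟩ := H8ProCons.exists_maximal_specializes y
  exact closure_mono (Set.singleton_subset_iff.2 (h hmax)) (specializes_iff_mem_closure.1 hη)

theorem exists_open_flat {X Y : Scheme.{u}} [IsReduced Y]
    (hgen : IsCompact (maxPts Y)) (f : X ⟶ Y) [LocallyOfFinitePresentation f] [QuasiCompact f] :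
    ∃ U : Y.Opens, maxPts Y ⊆ U ∧ IsCompact (U : Set Y) ∧ Flat (f ∣_ U) := by
  let Z : Set X := {x | (f.stalkMap x).hom.Flat}ᶜ
  have hZ : ProCons.IsProConstructible Z := H8ProCons.isProConstructible_iff_compl.2 (by
    simpa [Z] using H8ProCons.isIndConstructible_of_isOpen
      (EGA43.FlatDescent.isOpen_flat_stalkMap f))
  let U₀ : Y.Opens := ⟨(closure (f '' Z))ᶜ, isClosed_closure.isOpen_compl⟩
  have hU₀ : ∀ η ∈ maxPts Y, η ∈ U₀ := by
    intro η hη hmem
    obtain ⟨_, ⟨x, hx, rfl⟩, hxη⟩ := SubtrLib.exists_specializes_of_mem_closure_proCons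
      (H8ProCons.isProConstructible_image f hZ) hmem
    refine hx ?_
    have hfx : f x = η := hη _ hxη
    letI := (AlgSpLib.isField_stalk_of_maximal (f x) (hfx ▸ hη)).toField
    algebraize [(f.stalkMap x).hom]
    show Module.Flat (Y.presheaf.stalk (f x)) (X.presheaf.stalk x)
    infer_instance
  have hcov : ∀ η ∈ maxPts Y, ∃ V : Y.Opens, IsAffineOpen V ∧ η ∈ V ∧ V ≤ U₀ := fun η hη => by
    obtain ⟨_, ⟨V, hV, rfl⟩, hηV, hle⟩ :=
      Y.isBasis_affineOpens.exists_subset_of_mem_open (hU₀ η hη) U₀.isOpen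
    exact ⟨V, hV, hηV, hle⟩
  choose V hV hηV hle using hcov
  obtain ⟨t, ht⟩ := hgen.elim_finite_subcover (fun η : maxPts Y => (V η.1 η.2 : Set Y))
    (fun η => (V η.1 η.2).isOpen) (fun η hη => Set.mem_iUnion.2 ⟨⟨η, hη⟩, hηV η hη⟩)
  let U : Y.Opens := ⟨⋃ η ∈ t, (V η.1 η.2 : Set Y), isOpen_biUnion fun η _ => (V η.1 η.2).isOpen⟩
  refine ⟨U, ht, t.isCompact_biUnion fun η _ => (hV η.1 η.2).isCompact, ?_⟩
  refine Flat.iff_flat_stalkMap _ |>.2 fun x => ?_
  have hx : (f.stalkMap x.1).hom.Flat := by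
    by_contra hc
    obtain ⟨η, -, hη⟩ := Set.mem_iUnion₂.1 (show f x.1 ∈ (U : Set Y) from x.2)
    exact hle η.1 η.2 hη (subset_closure ⟨x.1, hc, rfl⟩)
  exact (RingHom.Flat.respectsIso.arrow_mk_iso_iff (morphismRestrictStalkMap f U x)).2 hx

end Groth.Agent.FlatMor12.SubtrFlat
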