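import Groth.Agent.FlatMor12.SubtrFlat.Flatten
import Groth.Agent.FlatMor12.SubtrFlat.Killed
import Groth.Agent.FlatMor12.UnivOpenLimit
import Groth.Agent.H8Lim.NoetherianModel
import Groth.Agent.FlatMorAdm.ExtendLocFree
import Groth.Agent.Props12.KerReduced

/-! Flattening of a universally open morphism by a proper surjection, up to nilimmersions. -/

set_option autoImplicit false
set_option backward.isDefEq.respectTransparency false
set_option backward.isDefEq.respectTransparency.types false

universe u

open CategoryTheory CategoryTheory.Limits AlgebraicGeometry TopologicalSpace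

namespace Groth.Agent.FlatMor12.SubtrFlat

theorem finite_maxPts (Y : Scheme.{u}) [NoetherianSpace Y] : (maxPts Y).Finite := by
  classical
  have hfin := NoetherianSpace.finite_irreducibleComponents (α := Y)
  refine Set.Finite.of_finite_image (f := fun η : Y => closure ({η} : Set Y)) (hfin.subset ?_) ?_
  · rintro _ ⟨η, hη, rfl⟩
    refine ⟨isIrreducible_singleton.closure, fun S hS hle => ?_⟩
    have h1 : (IsIrreducible.genericPoint hS) ⤳ η := (IsIrreducible.isGenericPoint_genericPoint_closure hS).specializes (subset_closure (hle (subset_closure rfl)))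
    have h2 := (IsIrreducible.isGenericPoint_genericPoint_closure hS)
    rw [hη _ h1] at h2
    exact subset_closure.trans h2.symm.le
  · intro a _ b _ h
    exact ((specializes_iff_closure_subset.2 (le_of_eq h.symm)).antisymm
      (specializes_iff_closure_subset.2 (le_of_eq h))).eq

/-- The conclusion. -/
def HasFlattening {X Y : Scheme.{u}} (f : X ⟶ Y) : Prop :=
  ∃ (Y' : Scheme.{u}) (q : Y' ⟶ Y) (X' : Scheme.{u}) (r : X' ⟶ pullback f q),
    IsProper q ∧ Surjective q ∧ LocallyOfFinitePresentation q ∧
    IsClosedImmersion r ∧ Surjective r ∧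
    Flat (r ≫ pullback.snd f q) ∧
    LocallyOfFinitePresentation (r ≫ pullback.snd f q) ∧ QuasiCompact (r ≫ pullback.snd f q) ∧
    QuasiSeparated (r ≫ pullback.snd f q)

theorem hasFlattening_of_noetherian {X Y : Scheme.{u}} [IsNoetherian Y] (f : X ⟶ Y)
    [LocallyOfFinitePresentation f] [QuasiCompact f] [QuasiSeparated f] [UniversallyOpen f] :
    HasFlattening f := by
  let J := Scheme.IdealSheafData.vanishingIdeal (⊤ : Closeds Y)
  let ι := J.subschemeι
  haveI : IsReduced J.subscheme := Props12.isReduced_subscheme_vanishingIdeal _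
  haveI : Surjective ι := ⟨fun y => by
    refine (Scheme.IdealSheafData.range_subschemeι J).ge ?_
    rw [Scheme.IdealSheafData.coe_support_vanishingIdeal]
    trivial⟩
  haveI : IsLocallyNoetherian J.subscheme := LocallyOfFiniteType.isLocallyNoetherian ι
  haveI : CompactSpace J.subscheme := QuasiCompact.compactSpace_of_compactSpace ι
  haveI : IsNoetherian J.subscheme := ⟨⟩
  let g := pullback.snd f ι
  haveI : LocallyOfFinitePresentation g := MorphismProperty.pullback_snd _ _ ‹_›
  haveI : QuasiCompact g := MorphismProperty.pullback_snd _ _ ‹_›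
  haveI : QuasiSeparated g := MorphismProperty.pullback_snd _ _ ‹_›
  haveI : UniversallyOpen g := MorphismProperty.pullback_snd _ _ ‹_›
  obtain ⟨U, 𝓘, Y', b, -, -, hb, hadm, hbp, hbs, hX⟩ :=
    exists_flattening_surjective (finite_maxPts J.subscheme).isCompact g
  let p₁ := pullback.fst g b
  let p₂ := pullback.snd g b
  haveI : LocallyOfFinitePresentation p₂ := MorphismProperty.pullback_snd _ _ ‹_›
  haveI : QuasiCompact p₂ := MorphismProperty.pullback_snd _ _ ‹_›
  haveI : UniversallyOpen p₂ := MorphismProperty.pullback_snd _ _ ‹_›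
  haveI : IsLocallyNoetherian Y' := LocallyOfFiniteType.isLocallyNoetherian b
  haveI : CompactSpace Y' := QuasiCompact.compactSpace_of_compactSpace b
  haveI : IsLocallyNoetherian (pullback g b) := LocallyOfFiniteType.isLocallyNoetherian p₂
  haveI : CompactSpace ↥(pullback g b) := QuasiCompact.compactSpace_of_compactSpace p₂
  haveI : IsNoetherian (pullback g b) := ⟨⟩
  let E := (𝓘.comap g).comap p₁
  haveI : QuasiCompact (ModPair.interior E).ι := inferInstance
  let 𝒥 := (ModPair.interior E).ι.ker
  obtain ⟨⟨h1, h2, h3, h4⟩, h5⟩ := hX _ p₁ p₂ (IsPullback.of_hasPullback g b) 𝒥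
    (mem_ker_iff_killed E (FlatMorAdm.isFiniteTypeIdeal_of_noetherian E))
  let e := pullbackLeftPullbackSndIso f ι b
  have he : e.hom ≫ pullback.snd f (b ≫ ι) = p₂ := pullbackLeftPullbackSndIso_hom_snd f ι b
  haveI : Surjective 𝒥.subschemeι := ⟨fun x => by
    obtain ⟨η, hη, hmax⟩ := H8ProCons.exists_maximal_specializes (p₂ x)
    obtain ⟨x', hxx, hx'⟩ := H8ProCons.exists_generization_of_isOpenAt p₂ (x := x)
      (fun V hV => p₂.isOpenMap.image_mem_nhds hV) hη
    exact (Scheme.IdealSheafData.range_subschemeι 𝒥).ge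
      (hxx.mem_closed 𝒥.support.isClosed (h5 x' (hx' ▸ hmax)))⟩
  haveI : LocallyOfFinitePresentation (b ≫ ι) :=
    LocallyOfFinitePresentation.iff_locallyOfFiniteType.2 inferInstance
  refine ⟨Y', b ≫ ι, 𝒥.subscheme, 𝒥.subschemeι ≫ e.hom, inferInstance, inferInstance, inferInstance,
    inferInstance, inferInstance, ?_, ?_, ?_, ?_⟩ <;> rw [Category.assoc, he] <;> assumption

theorem hasFlattening_of_isPullback {X Y X₀ Y₀ : Scheme.{u}} {f : X ⟶ Y} {f₀ : X₀ ⟶ Y₀} {u : X ⟶ X₀}
    {v : Y ⟶ Y₀} (sq : IsPullback u f f₀ v) (h : HasFlattening f₀) : HasFlattening f := by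
  obtain ⟨Y', q, X', r, h1, h2, h3, h4, h5, h6, h7, h8, h9⟩ := h
  let q' := pullback.snd q v
  let m : pullback f q' ⟶ pullback f₀ q :=
    pullback.lift (pullback.fst _ _ ≫ u) (pullback.snd _ _ ≫ pullback.fst q v)
      (by rw [Category.assoc, sq.w, pullback.condition_assoc, Category.assoc, pullback.condition])
  have sqm : IsPullback m (pullback.snd f q') (pullback.snd f₀ q) (pullback.fst q v) := by
    refine IsPullback.of_right ?_ (pullback.lift_snd _ _ _) (IsPullback.of_hasPullback f₀ q)
    rw [pullback.lift_fst, pullback.condition]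
    exact (IsPullback.of_hasPullback f q').paste_horiz sq
  let r' := pullback.snd r m
  have sqr : IsPullback (pullback.fst r m) (r' ≫ pullback.snd f q') (r ≫ pullback.snd f₀ q) (pullback.fst q v) :=
    (IsPullback.of_hasPullback r m).paste_vert sqm
  exact ⟨_, q', _, r', MorphismProperty.pullback_snd _ _ h1, MorphismProperty.pullback_snd _ _ h2,
    MorphismProperty.pullback_snd _ _ h3, MorphismProperty.pullback_snd _ _ h4,
    MorphismProperty.pullback_snd _ _ h5, MorphismProperty.of_isPullback sqr h6,
    MorphismProperty.of_isPullback sqr h7, MorphismProperty.of_isPullback sqr h8,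
    MorphismProperty.of_isPullback sqr h9⟩

theorem hasFlattening_affine {A : Type u} [CommRing A] {X : Scheme.{u}} (f : X ⟶ Spec (CommRingCat.of A))
    [LocallyOfFinitePresentation f] [QuasiCompact f] [QuasiSeparated f] [UniversallyOpen f] :
    HasFlattening f := by
  obtain ⟨j, Z, h, q, _, _, _, sq⟩ := H8Lim.exists_stage_spec (R := A) f
  let D := H8Lim.fgSpecDiagram A
  let c := H8Lim.fgSpecCone A
  haveI : CompactSpace (D.obj j) := inferInstanceAs (CompactSpace (Spec _ : Scheme.{u}))
  obtain ⟨k, φ, hk⟩ := UnivOpenLimit.exists_universallyOpen_descend D c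
    (H8Lim.isLimitFgSpecCone A) j h (𝟙 (D.obj j)) f (𝟙 c.pt) (c.π.app j) q
    IsPullback.of_id_snd sq
  haveI : IsIso (pullback.snd (𝟙 (D.obj j)) (D.map φ)) := inferInstance
  have e : pullback.fst (𝟙 (D.obj j)) (D.map φ) = pullback.snd (𝟙 (D.obj j)) (D.map φ) ≫ D.map φ := by
    rw [← pullback.condition, Category.comp_id]
  haveI : UniversallyOpen (pullback.snd h (D.map φ)) := by
    refine UnivOpenLimit.of_isPullback_factor (P := @UniversallyOpen.{u}) (IsPullback.of_hasPullback h _)
      (IsPullback.of_hasPullback h (D.map φ)) (inv (pullback.snd (𝟙 (D.obj j)) (D.map φ))) ?_ hk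
    rw [IsIso.inv_comp_eq]
    exact e
  haveI : Algebra.FiniteType ℤ (H8Lim.fgSub A k.unop) := (Subalgebra.fg_iff_finiteType _).1 ⟨k.unop, rfl⟩
  haveI : IsNoetherianRing (H8Lim.fgSub A k.unop) := Algebra.FiniteType.isNoetherianRing ℤ _
  haveI : IsNoetherian (D.obj k) := inferInstanceAs (IsNoetherian (Spec (CommRingCat.of (H8Lim.fgSub A k.unop))))
  haveI : LocallyOfFinitePresentation (pullback.snd h (D.map φ)) := MorphismProperty.pullback_snd _ _ ‹_›
  haveI : QuasiCompact (pullback.snd h (D.map φ)) := MorphismProperty.pullback_snd _ _ ‹_›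
  haveI : QuasiSeparated (pullback.snd h (D.map φ)) := MorphismProperty.pullback_snd _ _ ‹_›
  exact hasFlattening_of_isPullback (H8Lim.isPullback_later (D := D) (c := c) sq φ (H8Lim.eq_later sq φ))
    (hasFlattening_of_noetherian _)

theorem hasFlattening {X Y : Scheme.{u}} (f : X ⟶ Y) (hY : IsAffine Y ∨ IsNoetherian Y)
    [LocallyOfFinitePresentation f] [QuasiCompact f] [QuasiSeparated f] [UniversallyOpen f] :
    HasFlattening f := by
  rcases hY with hY | hY
  · refine hasFlattening_of_isPullback (u := 𝟙 X) (v := Y.isoSpec.hom) (f₀ := f ≫ Y.isoSpec.hom) ?_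
      (hasFlattening_affine (A := Γ(Y, ⊤)) (f ≫ Y.isoSpec.hom))
    exact IsPullback.of_horiz_isIso ⟨by simp⟩
  · exact hasFlattening_of_noetherian f

end Groth.Agent.FlatMor12.SubtrFlat
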