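import Groth.Agent.FlatMorFlatten.SubScheme
import Groth.Agent.FlatMorAdm.Bir
import Groth.Agent.FlatMor12.SubtrFlat.Killed
import Groth.Agent.FlatMor12.SubtrFlat.Flatten
import Groth.Agent.ModPairLib.LocPullback

/-! Platification for modulus pairs. -/

set_option autoImplicit false
set_option backward.isDefEq.respectTransparency false
set_option backward.isDefEq.respectTransparency.types false

universe u

open CategoryTheory CategoryTheory.Limits AlgebraicGeometry

namespace Groth.Agent.FlatMor12.SubtrFlat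

theorem adm_of_isBlowUp {X Y : Scheme.{u}} {I C : X.IdealSheafData} (hI : BlowUp.IsEffCartierIdeal I)
    {σ : Y ⟶ X} (hσ : BlowUp.IsBlowUp σ C) (hC : BlowUp.IsFiniteTypeIdeal C)
    (hle : ModPair.interior I ≤ ModPair.interior C) :
    BlowUp.IsEffCartierIdeal (I.comap σ) ∧ ModPair.IsAdmBlowup (I.comap σ) I σ := by
  have := ModPairLib.isAffineHom_interior hI
  have : IsIso (σ ∣_ ModPair.interior C) := ProjLib.isIso_morphismRestrict hσ _ disjoint_compl_right
  exact ⟨ModPairLib.isEffCartier_comap_of_dense hI σ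
      (ModPairLib.isDenseOpen_preimage_blowUp hσ (ModPairLib.isDenseOpen_interior hI) hle),
    rfl, BlowUpLib.isProper_of_isBlowUp hσ hC, ModPairLib.isIso_restrict_mono hle⟩

theorem exists_platification {X S : Scheme.{u}} [CompactSpace S] [QuasiSeparatedSpace S] [CompactSpace X]
    [QuasiSeparatedSpace X] (IS : S.IdealSheafData) (hS : BlowUp.IsEffCartierIdeal IS) (f : X ⟶ S)
    (hX : BlowUp.IsEffCartierIdeal (IS.comap f)) [LocallyOfFiniteType f] [Flat (f ∣_ ModPair.interior IS)]
    [LocallyOfFinitePresentation (f ∣_ ModPair.interior IS)] :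
    ∃ (T : Scheme.{u}) (t : T ⟶ S) (Y : Scheme.{u}) (y : Y ⟶ X) (g : Y ⟶ T) (h : y ≫ f = g ≫ t),
      BlowUp.IsEffCartierIdeal (IS.comap t) ∧ ModPair.IsAdmBlowup (IS.comap t) IS t ∧
        BlowUp.IsEffCartierIdeal ((IS.comap f).comap y) ∧
        ModPair.IsAdmBlowup ((IS.comap f).comap y) (IS.comap f) y ∧
        Flat g ∧ LocallyOfFinitePresentation g ∧ QuasiCompact g ∧ QuasiSeparated g ∧
        IsClosed (Set.range (pullback.lift y g h)) ∧
        ∀ x : ↥(pullback f t), pullback.snd f t x ∈ ModPair.interior (IS.comap t) →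
          x ∈ Set.range (pullback.lift y g h) := by
  haveI : QuasiCompact f := quasiCompact_of_compactSpace f
  haveI : QuasiSeparated f := inferInstance
  haveI := ModPairLib.isAffineHom_interior hS
  haveI : CompactSpace (ModPair.interior IS : Scheme.{u}) :=
    QuasiCompact.compactSpace_of_compactSpace (ModPair.interior IS).ι
  have hU : IsCompact (ModPair.interior IS : Set S) := isCompact_iff_compactSpace.2 ‹_›
  obtain ⟨𝓘, T, t, ht, hadm, hsupp, hflat⟩ :=
    FlatMorFlatten.exists_flattening_scheme f (ModPair.interior IS) hU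
  have hint : ModPair.interior 𝓘 = ModPair.interior IS := by
    ext z
    show z ∈ (𝓘.support : Set S)ᶜ ↔ _
    rw [hsupp, compl_compl]
  obtain ⟨hT, hTadm⟩ := adm_of_isBlowUp hS ht hadm.1 hint.ge
  have hintT : ModPair.interior (𝓘.comap t) = ModPair.interior (IS.comap t) := by
    rw [ModPairLib.interior_comap, ModPairLib.interior_comap, hint]
  let p₁ := pullback.fst f t
  let p₂ := pullback.snd f t
  let O := ModPair.interior ((𝓘.comap f).comap p₁)
  have hO : p₂ ⁻¹ᵁ ModPair.interior (𝓘.comap t) = O := by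
    show _ = ModPair.interior ((𝓘.comap f).comap p₁)
    rw [← ModPairLib.interior_comap, ← Scheme.IdealSheafData.comap_comp,
      ← Scheme.IdealSheafData.comap_comp, ← pullback.condition]
  haveI : IsAffineHom (ModPair.interior (𝓘.comap t)).ι := ModPairLib.isAffineHom_interior ht.1
  haveI : QuasiCompact O.ι := by
    rw [← hO]
    exact MorphismProperty.of_isPullback (P := @QuasiCompact.{u})
      (isPullback_morphismRestrict p₂ (ModPair.interior (𝓘.comap t))) inferInstance
  have hI' : BlowUp.IsFiniteTypeIdeal ((𝓘.comap f).comap p₁) :=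
    FlatMorAdm.isFiniteType_comap _ _ (FlatMorAdm.isFiniteType_comap _ _ hadm.1)
  obtain ⟨h1, h2, h3, h4⟩ := hflat _ p₁ p₂ (IsPullback.of_hasPullback f t) O.ι.ker (mem_ker_iff_killed _ hI')
  obtain ⟨hY, hYadm⟩ := adm_of_isBlowUp hX
    (FlatMorAdm.isBlowUp_strict f ht (IsPullback.of_hasPullback f t) O rfl)
    (FlatMorAdm.isFiniteType_comap _ _ hadm.1)
    (by rw [ModPairLib.interior_comap, ModPairLib.interior_comap, hint])
  have hw : (O.ι.imageι ≫ p₁) ≫ f = (O.ι.imageι ≫ p₂) ≫ t := by
    simp only [p₁, p₂, Category.assoc, pullback.condition]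
  have hl : pullback.lift (O.ι.imageι ≫ p₁) (O.ι.imageι ≫ p₂) hw = O.ι.imageι := by
    apply pullback.hom_ext <;> simp [p₁, p₂]
  refine ⟨T, t, O.ι.image, O.ι.imageι ≫ p₁, O.ι.imageι ≫ p₂, hw, hT, hTadm, hY, hYadm, h1, h2, h3, h4,
    ?_, fun x hx => ?_⟩
  · rw [hl]
    exact O.ι.imageι.isClosedEmbedding.isClosed_range
  · rw [hl]
    have hxO : x ∈ O := by
      rw [← hO]
      show p₂ x ∈ ModPair.interior (𝓘.comap t)
      rw [hintT]; exact hx
    exact ⟨O.ι.toImage ⟨x, hxO⟩, by rw [← Scheme.Hom.comp_apply, Scheme.Hom.toImage_imageι]; rfl⟩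

end Groth.Agent.FlatMor12.SubtrFlat
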